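import Cfsg.Agent.Lib.H28.Fi22M.Base

set_option autoImplicit false
set_option maxRecDepth 100000

/-!
# S2053: the presented double and triple covers of `Fi₂₂` (definitions only; helper28)

In both covers all nine lifted letters are involutions satisfying the Coxeter relations.  In the double cover all
relators of `Fi₂₂` stay exact except `(abcdefh)⁹ =: z₂` (word 37 of `relW`), which becomes a central involution; in
the triple cover all relators stay exact except `(dcbdefdhi)¹⁰ =: z₃` (word 36 of `relW`), which becomes a central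
element of order 3.
-/

namespace Cfsg.Agent.Lib.H28.Fi22M

open Cfsg.Agent.Lib.H17.Fi22Glue (gen idx rels relW)
open Cfsg.Agent.Lib.H14.SuzM (wv)

/-- the word `(abcdefh)⁹` -/
def zw2 : List ℕ := [0, 1, 2, 3, 4, 5, 7, 0, 1, 2, 3, 4, 5, 7, 0, 1, 2, 3, 4, 5, 7, 0, 1, 2, 3, 4, 5, 7, 0, 1, 2, 3, 4, 5, 7, 0, 1, 2, 3, 4, 5, 7, 0, 1, 2, 3, 4, 5, 7, 0, 1, 2, 3, 4, 5, 7, 0, 1, 2, 3, 4, 5, 7]

/-- the word `(dcbdefdhi)¹⁰` -/
def zw3 : List ℕ := [3, 2, 1, 3, 4, 5, 3, 7, 8, 3, 2, 1, 3, 4, 5, 3, 7, 8, 3, 2, 1, 3, 4, 5, 3, 7, 8, 3, 2, 1, 3, 4, 5, 3, 7, 8, 3, 2, 1, 3, 4, 5, 3, 7, 8, 3, 2, 1, 3, 4, 5, 3, 7, 8, 3, 2, 1, 3, 4, 5, 3, 7, 8, 3, 2, 1, 3, 4, 5, 3, 7, 8, 3, 2, 1, 3, 4, 5, 3, 7, 8, 3, 2, 1, 3, 4, 5, 3, 7, 8]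

theorem zw2_eq : relW[37]? = some zw2 := by decide

theorem zw3_eq : relW[36]? = some zw3 := by decide

/-- the relator words of the double cover: the relator words of `Fi₂₂` except `(abcdefh)⁹`, the commutators of
`(abcdefh)⁹` with the nine letters, and its square -/
def covW2 : List (List ℕ) :=
  relW.eraseIdx 37 ++ (List.range 9).map (fun x => zw2 ++ [x] ++ zw2.reverse ++ [x]) ++ [zw2 ++ zw2]

/-- the relator words of the triple cover: the relator words of `Fi₂₂` except `(dcbdefdhi)¹⁰`, the commutators of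
`(dcbdefdhi)¹⁰` with the nine letters, and its cube -/
def covW3 : List (List ℕ) :=
  relW.eraseIdx 36 ++ (List.range 9).map (fun x => zw3 ++ [x] ++ zw3.reverse ++ [x]) ++
    [zw3 ++ zw3 ++ zw3]

/-- the relators of the double cover -/
def covRels2 : Set (FreeGroup Cfsg.Spor.Fi22.Gen) :=
  {r | ∃ w ∈ covW2, r = FreeGroup.mk (w.map fun x => (gen x, true))}

/-- the relators of the triple cover -/
def covRels3 : Set (FreeGroup Cfsg.Spor.Fi22.Gen) :=
  {r | ∃ w ∈ covW3, r = FreeGroup.mk (w.map fun x => (gen x, true))}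

/-- the presented double cover -/
abbrev PC2 : Type := PresentedGroup covRels2

/-- the presented triple cover -/
abbrev PC3 : Type := PresentedGroup covRels3

/-- the letters of the double cover -/
noncomputable def pc2 (x : ℕ) : PC2 := PresentedGroup.of (gen x)

/-- the letters of the triple cover -/
noncomputable def pc3 (x : ℕ) : PC3 := PresentedGroup.of (gen x)

/-- the central involution `z₂ = (abcdefh)⁹` of the double cover -/
noncomputable def z2 : PC2 := wv pc2 zw2

/-- the central element `z₃ = (dcbdefdhi)¹⁰` of the triple cover -/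
noncomputable def z3 : PC3 := wv pc3 zw3

end Cfsg.Agent.Lib.H28.Fi22M
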