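import Cfsg.Agent.Lib.H17.Fi22Glue
import Cfsg.Agent.Lib.H14.SuzM.Base

set_option autoImplicit false
set_option maxRecDepth 100000

/-!
# S2053, `M(Fi₂₂) = C₆`: shared definitions (helper28)

Letters `0, …, 8` are the Coxeter generators `a, …, i` of the presentation `Y₃₃₂` of `Fi₂₂`
(`H17.Fi22Glue`).  Words are lists of letters, `wv g w` (of `H14.SuzM`) is the value of a word.

* `HK9 g = ⟨g 1, …, g 8⟩` (the lift of `⟨b, …, i⟩ ≅ Ω₇(3)`), `HK7 g = ⟨g 1, …, g 7⟩` (type `E₇`);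
* `Setting9 exactL relL g A`: the hypotheses of the monomial certificate over `Ω₇(3)`;
* `fg`: the nine letters of `Fi₂₂`, `KS9 = ⟨b, …, i⟩`, `KS7 = ⟨b, …, h⟩`;
* `coxL`: the 36 Coxeter relators of pairs of letters.
-/

namespace Cfsg.Agent.Lib.H28.Fi22M

open Cfsg.Agent.Lib.H17.Fi22Glue (gen idx rels relW)
open Cfsg.Agent.Lib.H14.SuzM (wv)

section

variable {Γ : Type*} [Group Γ] (g : ℕ → Γ)

/-- the subgroup generated by the letters `1, …, 8` -/
def HK9 : Subgroup Γ := Subgroup.closure {g 1, g 2, g 3, g 4, g 5, g 6, g 7, g 8}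

/-- the subgroup generated by the letters `1, …, 7` -/
def HK7 : Subgroup Γ := Subgroup.closure {g 1, g 2, g 3, g 4, g 5, g 6, g 7}

/-- the hypotheses of the certificate: nine involutions generating `Γ`, the words of `exactL` are
relators, the words of `relL` have values in the central subgroup `A`, which meets
`⟨g 1, …, g 8⟩` trivially -/
structure Setting9 (exactL relL : List (List ℕ)) (A : Subgroup Γ) : Prop where
  central : A ≤ Subgroup.center Γ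
  disj : ∀ x ∈ HK9 g, x ∈ A → x = 1
  invol : ∀ i < 9, g i * g i = 1
  exact : ∀ w ∈ exactL, wv g w = 1
  rel : ∀ w ∈ relL, wv g w ∈ A
  gen : Subgroup.closure {x : Γ | ∃ i < 9, x = g i} = ⊤

theorem HK7_le_HK9 : HK7 g ≤ HK9 g := by
  unfold HK7 HK9
  apply Subgroup.closure_mono
  intro x hx
  simp only [Set.mem_insert_iff, Set.mem_singleton_iff] at hx ⊢
  tauto

end

/-- the Fischer group, as presented in the definitions -/
abbrev FG : Type := Cfsg.Spor.Fi22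

/-- the nine letters of `Fi₂₂` -/
noncomputable def fg (x : ℕ) : FG := PresentedGroup.of (gen x)

/-- the subgroup `⟨b, …, i⟩` of `Fi₂₂` -/
noncomputable def KS9 : Subgroup FG := HK9 fg

/-- the subgroup `⟨b, …, h⟩` of `Fi₂₂` -/
noncomputable def KS7 : Subgroup FG := HK7 fg

/-- the Coxeter relators of the pairs of letters -/
def coxL : List (List ℕ) := [
  [0, 1, 0, 1, 0, 1], [0, 2, 0, 2], [0, 3, 0, 3], [0, 4, 0, 4], [0, 5, 0, 5], [0, 6, 0, 6],
  [0, 7, 0, 7], [0, 8, 0, 8], [1, 2, 1, 2, 1, 2], [1, 3, 1, 3], [1, 4, 1, 4], [1, 5, 1, 5],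
  [1, 6, 1, 6], [1, 7, 1, 7], [1, 8, 1, 8], [2, 3, 2, 3, 2, 3], [2, 4, 2, 4], [2, 5, 2, 5],
  [2, 6, 2, 6], [2, 7, 2, 7], [2, 8, 2, 8], [3, 4, 3, 4, 3, 4], [3, 5, 3, 5], [3, 6, 3, 6],
  [3, 7, 3, 7, 3, 7], [3, 8, 3, 8], [4, 5, 4, 5, 4, 5], [4, 6, 4, 6], [4, 7, 4, 7], [4, 8, 4, 8],
  [5, 6, 5, 6, 5, 6], [5, 7, 5, 7], [5, 8, 5, 8], [6, 7, 6, 7], [6, 8, 6, 8], [7, 8, 7, 8, 7, 8]]

theorem coxL_sub : ∀ w ∈ coxL, w ∈ relW := by decide

theorem fg_mul_self (x : ℕ) : fg x * fg x = 1 := Cfsg.Agent.Lib.H17.Fi22Glue.of_mul_self _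

theorem wv_fg_relW : ∀ w ∈ relW, wv fg w = 1 := by
  intro w hw
  have h := Cfsg.Agent.Lib.H17.Fi22Glue.relW_trivial w hw
  rw [List.map_map] at h
  exact h

theorem closure_fg : Subgroup.closure {x : FG | ∃ i < 9, x = fg i} = ⊤ :=
  Cfsg.Agent.Lib.H17.Fi22Glue.closure_gens

end Cfsg.Agent.Lib.H28.Fi22M
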