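import Cfsg.Agent.Lib.H28.Fi22M.Base
import Cfsg.Agent.Lib.H12.J3M.GlueBase
import Cfsg.Agent.Lib.H28.Fi22M.Cert.Run
import Cfsg.Agent.Lib.H28.Fi22M.Cert.Lists

set_option autoImplicit false
set_option maxRecDepth 100000

/-!
# The monomial certificate of `Fi₂₂` over `Ω₇(3)` applied to a group with nine marked involutions
(helper28; clone of helper14's `SuzM.Glue7` / helper12's `J3M.Glue2` / helper17's `M22M.MonoGlue`)

`Setting9 g Cert.exactL (Cert.symL ++ Cert.cenL) A` gives `ζ ∈ A` with `ζ ^ 2 = 1` such that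
`⟨g 1, …, g 8⟩` has at most `14080 * orderOf ζ` cosets.
-/

namespace Cfsg.Agent.Lib.H28.Fi22M

open Cfsg.Agent.Lib.H17.CosetCert (WT act)
open Cfsg.Agent.Lib.H17.MonoCert
open Cfsg.Agent.Lib.H14.SuzM (wv)
open Cfsg.Agent.Lib.H12.J3M (act_inv commGroupOfCentral smulComm_of_central free_of_disj
  ltw_mem_zpowers ltw_pow_of_lcomb ltw_eq_pow_of_lcomb)

/-- the hypotheses for the lists of the certificate -/
abbrev SettingC {Γ : Type*} [Group Γ] (g : ℕ → Γ) (A : Subgroup Γ) : Prop :=
  Setting9 g Cert.exactL (Cert.symL ++ Cert.cenL) A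

section

variable {Γ : Type*} [Group Γ] {g : ℕ → Γ} {A : Subgroup Γ}

theorem SettingC.wv_pair (S : SettingC g A) : ∀ w ∈ Cert.pairL, wv g w = 1 := by
  intro w hw
  simp only [Cert.pairL, List.mem_cons, List.not_mem_nil, or_false] at hw
  rcases hw with rfl | rfl | rfl | rfl | rfl | rfl | rfl | rfl | rfl
  · simpa [wv] using S.invol 0 (by norm_num)
  · simpa [wv] using S.invol 1 (by norm_num)
  · simpa [wv] using S.invol 2 (by norm_num)
  · simpa [wv] using S.invol 3 (by norm_num)
  · simpa [wv] using S.invol 4 (by norm_num)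
  · simpa [wv] using S.invol 5 (by norm_num)
  · simpa [wv] using S.invol 6 (by norm_num)
  · simpa [wv] using S.invol 7 (by norm_num)
  · simpa [wv] using S.invol 8 (by norm_num)

theorem SettingC.rel_all (S : SettingC g A) : ∀ w ∈ Cert.relL, wv g w ∈ A := by
  intro w hw
  rcases Cert.rel_cases w hw with h | h
  · rcases List.mem_append.mp h with h1 | h1
    · rw [S.exact w h1]; exact one_mem _
    · rw [S.wv_pair w h1]; exact one_mem _
  · exact S.rel w h

open Classical in
/-- the inverse of the value of a word, as an element of `A` (`1` if the value is not in `A`) -/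
noncomputable def ρA (g : ℕ → Γ) (A : Subgroup Γ) (w : List ℕ) : A :=
  if h : wv g w ∈ A then ⟨(wv g w)⁻¹, A.inv_mem h⟩ else 1

theorem ρA_coe (w : List ℕ) (h : wv g w ∈ A) :
    ((ρA g A w : A) : Γ) = (wv g w)⁻¹ := by
  unfold ρA
  rw [dif_pos h]

theorem gens_top9 (S : SettingC g A) :
    Subgroup.closure {y : Γ | ∃ x < 9, y = (g x)⁻¹} = ⊤ := by
  rw [eq_top_iff, ← S.gen, Subgroup.closure_le]
  rintro y ⟨i, hi, rfl⟩
  have h : g i = ((g i)⁻¹)⁻¹ := (inv_inv _).symm
  rw [h]
  exact Subgroup.inv_mem _ (Subgroup.subset_closure ⟨i, hi, rfl⟩)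

theorem letters_inv9 (S : SettingC g A) : ∀ x < 9, ∃ y < 9, (g y)⁻¹ = ((g x)⁻¹)⁻¹ := by
  intro x hx
  refine ⟨x, hx, ?_⟩
  rw [inv_inv]
  exact inv_eq_of_mul_eq_one_left (S.invol x hx)

/-- the list of the symbol values -/
noncomputable def ζs (g : ℕ → Γ) (A : Subgroup Γ) : List A := Cert.symL.map (ρA g A)

theorem wordsOK9 (S : SettingC g A) :
    letI := commGroupOfCentral A S.central
    haveI := smulComm_of_central A (HK9 g) S.central
    WordsOK Cert.Ev (ltw (ζs g A)) (fun x => (g x)⁻¹)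
      (((1 : Γ) : Γ ⧸ HK9 g)) Cert.words 57 := by
  let _ := commGroupOfCentral A S.central
  intro w wd r hget
  have hm := WT.get_mem Cert.words w (wd, r) hget
  obtain ⟨h1, h2⟩ := Cert.words_mem _ hm
  refine ⟨fun hr => ?_, fun hr hw => ?_, fun hr => ?_⟩
  · have hA := S.rel_all wd (h1 hr)
    refine ⟨⟨(wv g wd)⁻¹, A.inv_mem hA⟩, fun q => ?_⟩
    rw [act_inv]
    rfl
  · subst hr
    have hs := Cert.seed_mem w hw
    unfold Cert.seedChk at hs
    rw [hget] at hs
    simp only [decide_eq_true_eq] at hs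
    intro q
    rw [act_inv]
    rcases Cert.seed_cases _ hs with ⟨he, hmem⟩ | hz
    · simp only [] at he hmem
      have hv : wv g wd = 1 := by
        rcases List.mem_append.mp hmem with h | h
        · exact S.exact wd h
        · exact S.wv_pair wd h
      change (wv g wd)⁻¹ • q = _
      rw [hv, he, ltw_replicate_zero, inv_one, one_smul, one_smul]
    · simp only [Cert.symL, Cert.unitL, List.zip_cons_cons, List.zip_nil_right, List.mem_cons,
        Prod.mk.injEq, List.not_mem_nil, or_false] at hz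
      have key : ∀ wd' (hwd : wd' ∈ Cert.symL ++ Cert.cenL) (e : List ℤ),
          ltw (ζs g A) e = ρA g A wd' → wd = wd' → Cert.Ev w = e →
          ((List.map g wd).prod)⁻¹ • q = ltw (ζs g A) (Cert.Ev w) • q := by
        intro wd' hwd e he hw1 hw2
        rw [hw2, he, hw1]
        change _ = ((ρA g A wd' : A) : Γ) • q
        rw [ρA_coe wd' (S.rel wd' hwd)]
        rfl
      obtain ⟨a, b⟩ := hz
      exact key _ (by decide) _ (by simp [ζs, Cert.symL, ltw]) a b
  · have hsub := h2 hr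
    rw [act_inv]
    have hmem : (List.map g wd).prod ∈ HK9 g := by
      simp only [Cert.subL, List.mem_cons, List.not_mem_nil, or_false] at hsub
      unfold HK9
      rcases hsub with rfl | rfl | rfl | rfl | rfl | rfl | rfl | rfl
      all_goals
        simp only [List.map_cons, List.map_nil, List.prod_cons, List.prod_nil, mul_one]
        exact Subgroup.subset_closure (by simp)
    rw [MulAction.Quotient.smul_mk, QuotientGroup.eq]
    simpa using hmem

end

section final

variable {Γ : Type*} [Group Γ] {g : ℕ → Γ} {A : Subgroup Γ}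

/-- **Main theorem of the certificate.** -/
theorem mono_main (S : SettingC g A) :
    ∃ ζ : Γ, ζ ∈ A ∧ ζ ^ 2 = 1 ∧ Finite (Γ ⧸ HK9 g) ∧
      Nat.card (Γ ⧸ HK9 g) ≤ 14080 * Nat.card (Subgroup.zpowers ζ) := by
  let _ := commGroupOfCentral A S.central
  have := smulComm_of_central A (HK9 g) S.central
  set Q := Γ ⧸ HK9 g with hQ
  set q0 : Q := ((1 : Γ) : Q) with hq0
  set tw : List ℤ → A := ltw (ζs g A) with htw_def
  set γ : ℕ → Γ := fun x => (g x)⁻¹ with hγ
  have htw : TwOK ladd (List.replicate 1 0) leq tw := ltw_ok _ 1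
  have hfree : ∀ (α β : A) (q : Q), α • q = β • q → α = β :=
    free_of_disj A (HK9 g) S.central S.disj
  have hw := wordsOK9 S
  have hI := Cert.run tw γ hfree htw q0 hw
  obtain ⟨c, hc0, hwords, hcov⟩ := covered Cert.F Cert.Ev 9 131072 tw γ q0 Cert.words 126720 14080 58
    hI Cert.rows Cert.rows_ok Cert.rows_length (gens_top9 S) (letters_inv9 S)
  -- the relations
  have hrel : ∀ p ∈ Cert.relPairs, tw p.2.2 = 1 := by
    intro p hp
    have hchk := Cert.rel_chk p hp
    unfold Cert.relChk at hchk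
    rcases h1 : WT.get Cert.words p.1 with _ | ⟨wd1, r1⟩
    · rw [h1] at hchk; exact absurd hchk (by simp)
    · rcases h2 : WT.get Cert.words p.2.1 with _ | ⟨wd2, r2⟩
      · rw [h1, h2] at hchk
        cases r1 <;> exact absurd hchk (by simp)
      · rw [h1, h2] at hchk
        cases r1 with
        | false => exact absurd hchk (by simp)
        | true =>
          cases r2 with
          | false => exact absurd hchk (by simp)
          | true =>
            simp only [Bool.and_eq_true, decide_eq_true_eq] at hchk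
            obtain ⟨⟨⟨hwd, hev⟩, hlt1⟩, hlt2⟩ := hchk
            subst hwd
            have e1 := hwords p.1 hlt1 wd1 h1 q0
            have e2 := hwords p.2.1 hlt2 wd1 h2 q0
            have e3 : tw (Cert.Ev p.1) = tw (Cert.Ev p.2.1) := hfree _ _ q0 (e1.symm.trans e2)
            rw [hev, htw.add] at e3
            exact (mul_eq_left.mp e3.symm)
  have hR : ∀ v ∈ Cert.relV, tw v = 1 := by
    intro v hv
    rw [← Cert.relV_eq] at hv
    obtain ⟨p, hp, rfl⟩ := List.mem_map.mp hv
    exact hrel p hp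
  have hζ : ζs g A = [ρA g A [0, 1, 2, 3, 4, 5, 7, 0, 1, 2, 3, 4, 5, 7, 0, 1, 2, 3, 4, 5, 7, 0, 1, 2, 3, 4, 5, 7, 0, 1, 2, 3, 4, 5, 7, 0, 1, 2, 3, 4, 5, 7, 0, 1, 2, 3, 4, 5, 7, 0, 1, 2, 3, 4, 5, 7, 0, 1, 2, 3, 4, 5, 7]] := rfl
  set z : A := ρA g A [0, 1, 2, 3, 4, 5, 7, 0, 1, 2, 3, 4, 5, 7, 0, 1, 2, 3, 4, 5, 7, 0, 1, 2, 3, 4, 5, 7, 0, 1, 2, 3, 4, 5, 7, 0, 1, 2, 3, 4, 5, 7, 0, 1, 2, 3, 4, 5, 7, 0, 1, 2, 3, 4, 5, 7, 0, 1, 2, 3, 4, 5, 7] with hz
  have zN := ltw_pow_of_lcomb (ζs g A) Cert.relV hR _ _ _ Cert.gen_cert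
  rw [hζ] at zN
  have hzN : z ^ 2 = 1 := by
    have e : z ^ ((2 : ℕ) : ℤ) = 1 := by
      convert zN using 2
      · simp [hz, ltw]
      · rfl
    rwa [zpow_natCast] at e
  have hall : ∀ a ∈ ζs g A, a ∈ Subgroup.zpowers z := by
    intro a ha
    rw [hζ] at ha
    simp only [List.mem_cons, List.not_mem_nil, or_false] at ha
    rcases ha with rfl
    exact Subgroup.mem_zpowers _
  have hpow : ∀ a ∈ Subgroup.closure (Set.range tw), a ∈ Subgroup.zpowers z := by
    intro a ha
    have hle : Subgroup.closure (Set.range tw) ≤ Subgroup.zpowers z := by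
      rw [Subgroup.closure_le]
      rintro _ ⟨t, rfl⟩
      exact ltw_mem_zpowers _ z hall t
    exact hle ha
  have hord : orderOf z ∣ 2 := orderOf_dvd_of_pow_eq_one hzN
  have hopos : 0 < orderOf z := Nat.pos_of_dvd_of_pos hord (by norm_num)
  have hoeq : orderOf (z : Γ) = orderOf z := Subgroup.orderOf_coe z
  let f : Fin 14080 × Fin (orderOf z) → Q := fun p => (z ^ (p.2 : ℕ)) • c p.1
  have hf : Function.Surjective f := by
    intro q
    obtain ⟨i, hi, α, hα, rfl⟩ := hcov q
    obtain ⟨m, rfl⟩ := Subgroup.mem_zpowers_iff.mp (hpow α hα)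
    refine ⟨(⟨i, hi⟩, ⟨(m % (orderOf z : ℤ)).toNat, ?_⟩), ?_⟩
    · have h1 : 0 ≤ m % (orderOf z : ℤ) := Int.emod_nonneg _ (by exact_mod_cast hopos.ne')
      have h2 : m % (orderOf z : ℤ) < orderOf z := Int.emod_lt_of_pos _ (by exact_mod_cast hopos)
      omega
    · have h1 : 0 ≤ m % (orderOf z : ℤ) := Int.emod_nonneg _ (by exact_mod_cast hopos.ne')
      change z ^ ((m % (orderOf z : ℤ)).toNat) • c i = z ^ m • c i
      rw [← zpow_natCast, Int.toNat_of_nonneg h1, zpow_mod_orderOf]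
  refine ⟨(z : Γ), z.2, ?_, Finite.of_surjective f hf, ?_⟩
  · rw [← Subgroup.coe_pow, hzN]; rfl
  · have := Nat.card_le_card_of_surjective f hf
    rw [Nat.card_prod, Nat.card_fin, Nat.card_fin] at this
    rw [Nat.card_zpowers, hoeq]
    exact this

end final

end Cfsg.Agent.Lib.H28.Fi22M
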