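import Cfsg.Agent.Lib.H7.Fi22MCV
import Cfsg.Agent.Lib.H20.Fi22MP2
import Cfsg.Agent.Lib.H20.Fi22MP3

set_option autoImplicit false

/-!
# S2053: stem extensions of `Fi₂₂` with kernels of order divisible by 2 and by 3, from the models (helper28)

Assembly of helper7's cover lemma (**CV**) and helper20's presentation facts (**P2**, **P3**); the facts `z2 ≠ 1`,
`z3 ≠ 1` (the models **M2**, **M3**) and the finiteness of `Fi₂₂` are hypotheses here.
-/

namespace Cfsg.Agent.Lib.H28.Fi22M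

/-- **LOWER, 2-part**: the presented double cover is a finite stem extension of `Fi₂₂` -/
theorem exists_stem2_of (h : z2 ≠ 1) (hfin : Finite FG) :
    ∃ (Γ : Type) (_ : Group Γ) (_ : Finite Γ) (σ : Γ →* FG),
      Cfsg.IsStemExtension σ ∧ 2 ∣ Nat.card σ.ker := by
  obtain ⟨hgen, hz, hz2, ⟨π, hπ, hπz⟩, hsq, hrel, hperf⟩ := Cfsg.Agent.Lib.H20.Fi22M.cover2_facts
  obtain ⟨hfinC, hstem, hdvd⟩ := Cfsg.Agent.Lib.H7.Fi22M.stem_of_cover pc2 z2 2 Nat.prime_two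
    hgen hz hz2 h π hπ hπz hsq hrel hperf hfin
  exact ⟨PC2, inferInstance, hfinC, π, hstem, hdvd⟩

/-- **LOWER, 3-part**: the presented triple cover is a finite stem extension of `Fi₂₂` -/
theorem exists_stem3_of (h : z3 ≠ 1) (hfin : Finite FG) :
    ∃ (Γ : Type) (_ : Group Γ) (_ : Finite Γ) (σ : Γ →* FG),
      Cfsg.IsStemExtension σ ∧ 3 ∣ Nat.card σ.ker := by
  obtain ⟨hgen, hz, hz3, ⟨π, hπ, hπz⟩, hsq, hrel, hperf⟩ := Cfsg.Agent.Lib.H20.Fi22M.cover3_facts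
  obtain ⟨hfinC, hstem, hdvd⟩ := Cfsg.Agent.Lib.H7.Fi22M.stem_of_cover pc3 z3 3 Nat.prime_three
    hgen hz hz3 h π hπ hπz hsq hrel hperf hfin
  exact ⟨PC3, inferInstance, hfinC, π, hstem, hdvd⟩

end Cfsg.Agent.Lib.H28.Fi22M
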