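import Cfsg.Agent.Lib.H17.M22M.MonoData

set_option autoImplicit false

/-!
# Packed data access for monomial certificates with up to sixteen letters (helper28)
-/

namespace Cfsg.Agent.Lib.H28.Fi22M

open Cfsg.Agent.Lib.H17.CosetCert (force force_eq BT)
open Cfsg.Agent.Lib.H17.MonoCert (decTw)

/-- facts `((a, x, b), t)` packed `K` to a leaf, each `wd` bits wide: `a` in the low `nb` bits, then
`b`, then `x` (4 bits), then `k` twist fields. `W = 2 ^ wd`, `N = 2 ^ nb`. -/
noncomputable def factOfM4 (t : BT) (h0 K wd W nb N k : ℕ) (f : ℕ) : (ℕ × ℕ × ℕ) × List ℤ :=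
  force (BT.get t h0 (Nat.div f K)) fun leaf =>
  force (Nat.mod (Nat.shiftRight leaf (Nat.mul wd (Nat.mod f K))) W) fun e =>
  force (Nat.shiftRight e (Nat.add (Nat.mul 2 nb) 4)) fun tt =>
  ((Nat.mod e N, Nat.mod (Nat.shiftRight e (Nat.mul 2 nb)) 16, Nat.mod (Nat.shiftRight e nb) N),
    decTw k tt)

end Cfsg.Agent.Lib.H28.Fi22M
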