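import Cfsg.Agent.Lib.H28.Fi22M.Tab3L0
import Cfsg.Agent.Lib.H28.Fi22M.Tab3L1
import Cfsg.Agent.Lib.H28.Fi22M.Tab3L2
import Cfsg.Agent.Lib.H28.Fi22M.Tab3L3
import Cfsg.Agent.Lib.H28.Fi22M.Tab3L4
import Cfsg.Agent.Lib.H28.Fi22M.Tab3L5
import Cfsg.Agent.Lib.H28.Fi22M.Tab3L6
import Cfsg.Agent.Lib.H28.Fi22M.Tab3L7
import Cfsg.Agent.Lib.H28.Fi22M.Tab3L8

set_option autoImplicit false

/-! # Tables of the monomial permutation model of the triple cover of `Fi₂₂` on `Fin 61776 × ZMod 12` (generated; helper28) -/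

namespace Cfsg.Agent.Lib.H28.Fi22M.M3

/-- the tables -/
def tabs (x : Nat) : Nat :=
  match x with
  | 0 => t0
  | 1 => t1
  | 2 => t2
  | 3 => t3
  | 4 => t4
  | 5 => t5
  | 6 => t6
  | 7 => t7
  | 8 => t8
  | _ => 0

end Cfsg.Agent.Lib.H28.Fi22M.M3
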