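import Cfsg.Agent.Lib.H28.Fi22M.Glue9
import Cfsg.Agent.Lib.H28.Fi22M.ETp
import Cfsg.Agent.Lib.H8.Fi22MUC
import Cfsg.Agent.Lib.H8.Fi22MY2
import Cfsg.Agent.Lib.H7.Fi22MCL
import Cfsg.Agent.Lib.H9.Fi22MKL
import Cfsg.Agent.Lib.H5.Fi22MTR
import Cfsg.Agent.Lib.H15.Fi22ME7

set_option autoImplicit false
set_option maxRecDepth 100000

/-!
# S2053: the kernel of every finite stem extension of `Fi₂₂` has order dividing 6, from the facts on `Fi₂₂`
(helper28)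

Assembly of: helper9's **KL**, helper7's **CL**, helper5's **TR**, helper15's **E7**, helper8's **Y2** and **UC**, my
variant **ET'** of helper5's extension lemma, and the certificate `mono_main`.  The facts on `Fi₂₂` (**FA**, **BF1**,
**BF2**, **W**) are hypotheses here.
-/

namespace Cfsg.Agent.Lib.H28.Fi22M

open Cfsg.Agent.Lib.H17.Fi22Glue (gen idx rels relW)
open Cfsg.Agent.Lib.H14.SuzM (wv SL.L)
open scoped commutatorElement

/-- the word `(cdefghi)⁹` -/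
def wD : List ℕ := [2, 3, 4, 5, 6, 7, 8, 2, 3, 4, 5, 6, 7, 8, 2, 3, 4, 5, 6, 7, 8, 2, 3, 4, 5, 6, 7, 8,
      2, 3, 4, 5, 6, 7, 8, 2, 3, 4, 5, 6, 7, 8, 2, 3, 4, 5, 6, 7, 8, 2, 3, 4, 5, 6, 7, 8,
      2, 3, 4, 5, 6, 7, 8]

/-- the shape of the exact words of the certificate -/
theorem exact_shape : ∀ w ∈ Cert.exactL, (∀ x ∈ w, 1 ≤ x ∧ x < 9) ∨ w ∈ coxL ∨ w = [0, 0] := by
  decide

/-- the words of the certificate are relator words of `Fi₂₂`, or `(cdefghi)⁹` -/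
theorem words_cases : ∀ w ∈ Cert.exactL ++ (Cert.symL ++ Cert.cenL), w ∈ relW ∨ w = wD := by
  decide

theorem words_trivial (hD : wv fg wD = 1) :
    ∀ w ∈ Cert.exactL ++ (Cert.symL ++ Cert.cenL), wv fg w = 1 := by
  intro w hw
  rcases words_cases w hw with h | h
  · exact wv_fg_relW w h
  · rw [h]; exact hD

/-- **UPPER**, from the facts on `Fi₂₂` -/
theorem card_ker_dvd_six_of
    (hFA : Cfsg.Agent.Lib.H7.Fi22M.InvolLift)
    (hBF1 : Finite FG ∧ (KS9 : Subgroup FG).index = 14080 ∧ ⁅KS9, KS9⁆ = KS9 ∧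
      ∀ (L : Type) [Group L] [Finite L] (τ : L →* ↥KS9), Cfsg.IsStemExtension τ → Nat.card τ.ker ∣ 6)
    (hBF2 : Nat.card ↥KS7 = 1451520 ∧ (KS7 : Subgroup FG).relIndex KS9 = 3159)
    (hD : wv fg wD = 1)
    (Γ : Type) [Group Γ] [Finite Γ] (σ : Γ →* FG) (hσ : Cfsg.IsStemExtension σ) :
    Nat.card σ.ker ∣ 6 := by
  obtain ⟨hfin, hidx, hperf, hmult⟩ := hBF1
  have hCL := Cfsg.Agent.Lib.H7.Fi22M.coxLift_of_involLift hFA
  have hY2 : Nat.card ↥(σ.ker ⊓ SL.L σ KS9) ∣ 3 :=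
    Cfsg.Agent.Lib.H8.Fi22M.card_inf_L_dvd_three hCL
      (fun hP M _ z hz => Cfsg.Agent.Lib.H5.Fi22M.pow_index_mem_commutator hP M z hz)
      (fun σ y hy hinv hcox =>
        Cfsg.Agent.Lib.H15.Fi22M.commutator_HK7_inf_ker σ y hy hinv hcox hBF2.1)
      hperf hmult hBF2.2 Γ σ hσ
  have h := card_ker_dvd_of_lift' (G := FG) KS9 3 2 hperf
    (fun E _ _ τ hτ K' hK hKK =>
      Cfsg.Agent.Lib.H8.Fi22M.core_of_cert Cert.exactL (Cert.symL ++ Cert.cenL) exact_shape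
        (words_trivial hD) hD (fun E _ g A S => mono_main S) hfin hidx E τ hτ K' hK hKK)
    Γ σ hσ hY2
  simpa using h

end Cfsg.Agent.Lib.H28.Fi22M
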